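import Mathlib

/-!
A common multiple of torus orders `q ^ d ± 1` that is at most `q ^ (∑ d + 1) / (q - 1)`.
-/

set_option autoImplicit false

namespace Cfsg.Agent.H69.MaxOrder

open Finset

theorem two_pow_prod (q : ℕ) (hq : 1 ≤ q) (N : ℕ) :
    (q - 1) * ∏ v ∈ range N, (q ^ 2 ^ v + 1) ≤ q * ∏ v ∈ range N, q ^ 2 ^ v := by
  have h : ∀ N, (q - 1) * ∏ v ∈ range N, (q ^ 2 ^ v + 1) = q ^ 2 ^ N - 1 ∧
      q * ∏ v ∈ range N, q ^ 2 ^ v = q ^ 2 ^ N := by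
    intro N
    induction N with
    | zero => simp
    | succ N ih =>
      rw [prod_range_succ, prod_range_succ, ← mul_assoc, ← mul_assoc, ih.1, ih.2, pow_succ 2 N, pow_mul]
      refine ⟨?_, (sq _).symm⟩
      rw [mul_comm]
      simpa using (Nat.sq_sub_sq (q ^ 2 ^ N) 1).symm
  rw [(h N).1, (h N).2]
  omega

/-- Exponents with distinct powers of two: a telescoping product. -/
theorem prod_distinct {α : Type*} [DecidableEq α] (R : Finset α) (d v : α → ℕ) (q : ℕ) (hq : 1 ≤ q)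
    (hv : ∀ f ∈ R, 2 ^ v f ≤ d f) (hinj : Set.InjOn v R) :
    (q - 1) * ∏ f ∈ R, (q ^ d f + 1) ≤ q ^ (∑ f ∈ R, d f + 1) := by
  set N := R.sup v + 1
  have h1 : (∏ f ∈ R, (q ^ d f + 1)) * ∏ f ∈ R, q ^ 2 ^ v f ≤
      q ^ (∑ f ∈ R, d f) * ∏ f ∈ R, (q ^ 2 ^ v f + 1) := by
    rw [← Finset.prod_pow_eq_pow_sum, ← prod_mul_distrib, ← prod_mul_distrib]
    refine Finset.prod_le_prod' fun f hf => ?_
    have := Nat.pow_le_pow_right hq (hv f hf)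
    nlinarith
  have hsub : R.image v ⊆ range N := fun x hx => by
    obtain ⟨f, hf, rfl⟩ := mem_image.1 hx
    exact mem_range.2 (Nat.lt_succ_of_le (le_sup hf))
  have e1 : ∏ f ∈ R, q ^ 2 ^ v f = ∏ x ∈ R.image v, q ^ 2 ^ x :=
    (prod_image (f := fun x => q ^ 2 ^ x) hinj).symm
  have e2 : ∏ f ∈ R, (q ^ 2 ^ v f + 1) = ∏ x ∈ R.image v, (q ^ 2 ^ x + 1) :=
    (prod_image (f := fun x => q ^ 2 ^ x + 1) hinj).symm
  have h2 : (∏ f ∈ R, (q ^ 2 ^ v f + 1)) * ∏ x ∈ range N, q ^ 2 ^ x ≤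
      (∏ f ∈ R, q ^ 2 ^ v f) * ∏ x ∈ range N, (q ^ 2 ^ x + 1) := by
    rw [e1, e2, ← prod_sdiff hsub, ← prod_sdiff hsub (f := fun x => q ^ 2 ^ x + 1)]
    have : ∏ x ∈ range N \ R.image v, q ^ 2 ^ x ≤ ∏ x ∈ range N \ R.image v, (q ^ 2 ^ x + 1) :=
      Finset.prod_le_prod' fun x _ => Nat.le_succ _
    nlinarith [Nat.zero_le ((∏ x ∈ R.image v, (q ^ 2 ^ x + 1)) * ∏ x ∈ R.image v, q ^ 2 ^ x)]
  have hpos : 0 < (∏ f ∈ R, q ^ 2 ^ v f) * ∏ x ∈ range N, q ^ 2 ^ x :=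
    Nat.mul_pos (prod_pos fun _ _ => Nat.pow_pos hq) (prod_pos fun _ _ => Nat.pow_pos hq)
  refine Nat.le_of_mul_le_mul_right ?_ hpos
  calc (q - 1) * (∏ f ∈ R, (q ^ d f + 1)) * ((∏ f ∈ R, q ^ 2 ^ v f) * ∏ x ∈ range N, q ^ 2 ^ x)
      = (q - 1) * ((∏ f ∈ R, (q ^ d f + 1)) * ∏ f ∈ R, q ^ 2 ^ v f) *
          ∏ x ∈ range N, q ^ 2 ^ x := by ring
    _ ≤ (q - 1) * (q ^ (∑ f ∈ R, d f) * ∏ f ∈ R, (q ^ 2 ^ v f + 1)) *
          ∏ x ∈ range N, q ^ 2 ^ x := by gcongr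
    _ = (q - 1) * q ^ (∑ f ∈ R, d f) *
          ((∏ f ∈ R, (q ^ 2 ^ v f + 1)) * ∏ x ∈ range N, q ^ 2 ^ x) := by ring
    _ ≤ (q - 1) * q ^ (∑ f ∈ R, d f) *
          ((∏ f ∈ R, q ^ 2 ^ v f) * ∏ x ∈ range N, (q ^ 2 ^ x + 1)) := by gcongr
    _ = q ^ (∑ f ∈ R, d f) * (∏ f ∈ R, q ^ 2 ^ v f) *
          ((q - 1) * ∏ x ∈ range N, (q ^ 2 ^ x + 1)) := by ring
    _ ≤ q ^ (∑ f ∈ R, d f) * (∏ f ∈ R, q ^ 2 ^ v f) * (q * ∏ x ∈ range N, q ^ 2 ^ x) :=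
        Nat.mul_le_mul_left _ (two_pow_prod q hq N)
    _ = _ := by rw [pow_succ]; ring

theorem pair_lcm_le {q a b v : ℕ} (hq : 2 ≤ q) (ha : 1 ≤ a) (hb : 1 ≤ b) {a' b' : ℕ}
    (ha' : Odd a') (hb' : Odd b') (hav : a = 2 ^ v * a') (hbv : b = 2 ^ v * b') :
    Nat.lcm (q ^ a + 1) (q ^ b + 1) ≤ q ^ (a + b) := by
  have key : ∀ c c', Odd c' → c = 2 ^ v * c' → q ^ 2 ^ v + 1 ∣ q ^ c + 1 := fun c c' hc hcv => by
    rw [hcv, pow_mul]; simpa using hc.nat_add_dvd_pow_add_pow (q ^ 2 ^ v) 1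
  have hg : q + 1 ≤ Nat.gcd (q ^ a + 1) (q ^ b + 1) := by
    refine le_trans ?_ (Nat.le_of_dvd (Nat.gcd_pos_of_pos_left _ (Nat.succ_pos _))
      (Nat.dvd_gcd (key a a' ha' hav) (key b b' hb' hbv)))
    have := Nat.le_self_pow (Nat.two_pow_pos v).ne' q
    omega
  have h1 := Nat.gcd_mul_lcm (q ^ a + 1) (q ^ b + 1)
  have h2 : (q ^ a + 1) * (q ^ b + 1) ≤ q ^ (a + b) * (q + 1) := by
    have h3 : 2 ≤ q ^ a := hq.trans (Nat.le_self_pow (by omega) q)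
    have h4 : 2 ≤ q ^ b := hq.trans (Nat.le_self_pow (by omega) q)
    have h5 : q ^ a + q ^ b ≤ q ^ a * q ^ b := by nlinarith
    have h6 : q ^ a * q ^ b * 3 ≤ q ^ a * q ^ b * (q + 1) := Nat.mul_le_mul_left _ (by omega)
    rw [pow_add]
    nlinarith
  refine Nat.le_of_mul_le_mul_left ?_ (show 0 < q + 1 by omega)
  calc (q + 1) * Nat.lcm (q ^ a + 1) (q ^ b + 1)
      ≤ Nat.gcd (q ^ a + 1) (q ^ b + 1) * Nat.lcm (q ^ a + 1) (q ^ b + 1) :=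
        Nat.mul_le_mul_right _ hg
    _ ≤ (q + 1) * q ^ (a + b) := by rw [h1, mul_comm (q + 1)]; exact h2

theorem exists_plus_bound {α : Type*} [DecidableEq α] (q : ℕ) (hq : 2 ≤ q) (d : α → ℕ)
    (R : Finset α) (hd : ∀ f ∈ R, 1 ≤ d f) :
    ∃ L, 0 < L ∧ (∀ f ∈ R, q ^ d f + 1 ∣ L) ∧ (q - 1) * L ≤ q ^ (∑ f ∈ R, d f + 1) := by
  induction R using Finset.strongInduction with
  | _ R ih =>
  have hdec : ∀ n : ℕ, ∃ v w, n = 0 ∨ Odd w ∧ n = 2 ^ v * w := fun n => by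
    rcases Nat.eq_zero_or_pos n with h | h
    · exact ⟨0, 0, Or.inl h⟩
    · obtain ⟨v, w, hw, he⟩ := Nat.exists_eq_two_pow_mul_odd h.ne'
      exact ⟨v, w, Or.inr ⟨hw, he⟩⟩
  choose V W hVW using hdec
  have hV : ∀ f ∈ R, Odd (W (d f)) ∧ d f = 2 ^ V (d f) * W (d f) := fun f hf =>
    (hVW (d f)).resolve_left (Nat.one_le_iff_ne_zero.1 (hd f hf))
  by_cases hex : ∃ a ∈ R, ∃ b ∈ R, a ≠ b ∧ V (d a) = V (d b)
  · obtain ⟨a, ha, b, hb, hab, hv⟩ := hex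
    have hbE : b ∈ R.erase a := mem_erase.2 ⟨hab.symm, hb⟩
    obtain ⟨L, hL, hdvd, hle⟩ := ih ((R.erase a).erase b)
      (Finset.ssubset_of_subset_of_ssubset (erase_subset _ _) (erase_ssubset ha))
      fun f hf => hd f (mem_of_mem_erase (mem_of_mem_erase hf))
    set L2 := Nat.lcm (q ^ d a + 1) (q ^ d b + 1)
    have hL2 : L2 ≤ q ^ (d a + d b) := pair_lcm_le hq (hd a ha) (hd b hb) (hV a ha).1 (hV b hb).1
      (hV a ha).2 (hv ▸ (hV b hb).2)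
    refine ⟨L2 * L, Nat.mul_pos (Nat.lcm_pos (Nat.succ_pos _) (Nat.succ_pos _)) hL, fun f hf => ?_, ?_⟩
    · by_cases h1 : f = a
      · rw [h1]; exact (Nat.dvd_lcm_left _ _).mul_right _
      by_cases h2 : f = b
      · rw [h2]; exact (Nat.dvd_lcm_right _ _).mul_right _
      exact (hdvd f (mem_erase.2 ⟨h2, mem_erase.2 ⟨h1, hf⟩⟩)).mul_left _
    · rw [← add_sum_erase _ _ ha, ← add_sum_erase _ _ hbE]
      calc (q - 1) * (L2 * L) = L2 * ((q - 1) * L) := by ring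
        _ ≤ q ^ (d a + d b) * q ^ (∑ f ∈ (R.erase a).erase b, d f + 1) := Nat.mul_le_mul hL2 hle
        _ = _ := by rw [← pow_add]; ring_nf
  · push Not at hex
    refine ⟨∏ f ∈ R, (q ^ d f + 1), prod_pos fun f _ => Nat.succ_pos _,
      fun f hf => dvd_prod_of_mem _ hf, ?_⟩
    refine prod_distinct R d (fun f => V (d f)) q (by omega) (fun f hf => ?_) fun a ha b hb h => ?_
    · rw [(hV f hf).2]
      refine le_trans (le_of_eq ?_) (Nat.le_mul_of_pos_right _ (hV f hf).1.pos)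
      rw [← (hV f hf).2]
    · by_contra hne
      exact hex a ha b hb hne h

theorem exists_torus_bound {α : Type*} [DecidableEq α] (q : ℕ) (hq : 2 ≤ q) (d : α → ℕ)
    (s : α → Prop) [DecidablePred s] (R : Finset α) (hd : ∀ f ∈ R, 1 ≤ d f) :
    ∃ L, 0 < L ∧ (∀ f ∈ R, (if s f then q ^ d f + 1 else q ^ d f - 1) ∣ L) ∧
      (q - 1) * L ≤ q ^ (∑ f ∈ R, d f + 1) := by
  obtain ⟨L, hL, hdvd, hle⟩ := exists_plus_bound q hq d (R.filter s) fun f hf => hd f (mem_filter.1 hf).1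
  set M := ∏ f ∈ R.filter (fun f => ¬ s f), (q ^ d f - 1)
  have hM : M ≤ q ^ (∑ f ∈ R.filter (fun f => ¬ s f), d f) := by
    rw [← Finset.prod_pow_eq_pow_sum]
    exact Finset.prod_le_prod' fun f _ => Nat.sub_le _ _
  have hMpos : 0 < M := prod_pos fun f hf =>
    Nat.sub_pos_of_lt (Nat.one_lt_pow (Nat.one_le_iff_ne_zero.1 (hd f (mem_filter.1 hf).1)) hq)
  refine ⟨M * L, Nat.mul_pos hMpos hL, fun f hf => ?_, ?_⟩
  · split_ifs with h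
    · exact (hdvd f (mem_filter.2 ⟨hf, h⟩)).mul_left _
    · exact (dvd_prod_of_mem (f := fun g => q ^ d g - 1) (mem_filter.2 ⟨hf, h⟩)).mul_right _
  · rw [← sum_filter_add_sum_filter_not R s]
    calc (q - 1) * (M * L) = M * ((q - 1) * L) := by ring
      _ ≤ q ^ (∑ f ∈ R.filter (fun f => ¬ s f), d f) * q ^ (∑ f ∈ R.filter s, d f + 1) :=
          Nat.mul_le_mul hM hle
      _ = _ := by rw [← pow_add]; ring_nf

end Cfsg.Agent.H69.MaxOrder
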