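import Cfsg.Agent.H69.MaxOrder.Torus
import Cfsg.Agent.H69.MaxOrder.TorusLcm

/-!
Bound on the order, modulo `± 1`, of a matrix annihilated together with its inverse.
-/

set_option autoImplicit false

namespace Cfsg.Agent.H69.MaxOrder

open Polynomial UniqueFactorizationMonoid Cfsg.Agent.H69.SpecEight
open scoped Classical

variable {F : Type*} [Field F] {ι : Type*} [Fintype ι] [DecidableEq ι]

/-- One representative from each orbit of an involution. -/
theorem exists_reps {α : Type*} (T : Finset α) (r : α → α) (hrr : ∀ x ∈ T, r (r x) = x)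
    (hmem : ∀ x ∈ T, r x ∈ T) :
    ∃ R : Finset α, R ⊆ T ∧ (∀ x ∈ T, x ∈ R ∨ r x ∈ R) ∧ ∀ x ∈ R, r x ∈ R → r x = x := by
  refine ⟨T.filter fun x => r x = x ∨ WellOrderingRel x (r x), Finset.filter_subset _ _,
    fun x hx => ?_, fun x hx hrx => ?_⟩
  · rcases trichotomous_of WellOrderingRel x (r x) with h | h | h
    · exact Or.inl (Finset.mem_filter.2 ⟨hx, Or.inr h⟩)
    · exact Or.inl (Finset.mem_filter.2 ⟨hx, Or.inl h.symm⟩)
    · exact Or.inr (Finset.mem_filter.2 ⟨hmem x hx, Or.inr (by rwa [hrr x hx])⟩)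
  · obtain ⟨hxT, h1 | h1⟩ := Finset.mem_filter.1 hx
    · exact h1
    obtain ⟨-, h2 | h2⟩ := Finset.mem_filter.1 hrx
    · rwa [hrr x hxT, eq_comm] at h2
    · rw [hrr x hxT] at h2
      exact absurd h2 (asymm_of WellOrderingRel h1)

theorem exp_two {c K : ℕ} (hK : 1 ≤ K) (h : 2 ^ (K - 1) < c) : 2 * K ≤ c + 1 ∧ K ≤ c - 1 := by
  obtain ⟨j, rfl⟩ : ∃ j, K = j + 1 := ⟨K - 1, by omega⟩
  rw [Nat.add_sub_cancel] at h
  have h1 : j < 2 ^ j := Nat.lt_two_pow_self
  rcases j with _ | i
  · simp at h ⊢; omega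
  · have h2 : i < 2 ^ i := Nat.lt_two_pow_self
    rw [pow_succ] at h; omega

theorem exp_odd {p c K : ℕ} (hp : 3 ≤ p) (hK : 1 ≤ K) (h : p ^ (K - 1) < c) :
    2 * K ≤ c ∧ K ≤ c - 1 ∧ ∀ m, c + 1 ≤ 2 * m + 1 → 2 ≤ m → (c + 1 ≤ 2 * m ∨ 3 ≤ m) → K + 1 ≤ m := by
  have h' : 3 ^ (K - 1) < c := lt_of_le_of_lt (Nat.pow_le_pow_left hp _) h
  obtain ⟨j, rfl⟩ : ∃ j, K = j + 1 := ⟨K - 1, by omega⟩
  rw [Nat.add_sub_cancel] at h'
  have h1 : 2 * j + 1 ≤ 3 ^ j := by
    clear h' h
    induction j with
    | zero => simp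
    | succ j ih => rw [pow_succ]; omega
  refine ⟨by omega, by omega, fun m hm hm2 hd => ?_⟩
  rcases j with _ | _ | i
  · omega
  · simp at h'; omega
  · have h2 : 3 * (i + 3) ≤ 3 ^ (i + 1 + 1) := by
      clear h' h h1 hm hd
      induction i with
      | zero => norm_num
      | succ i ih => rw [pow_succ]; linarith [ih (by omega)]
    omega

variable [Finite F]

theorem order_bound {A : Matrix ι ι F} {N : ℕ} (hN : 0 < N) (hA : A ^ N = 1)
    (hinv : H55.InvClosed A) {m : ℕ} (hm : 2 ≤ m)
    (hD : (minpoly F A).natDegree ≤ 2 * m ∨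
      (3 ≤ m ∧ (2 : F) ≠ 0 ∧ (minpoly F A).natDegree ≤ 2 * m + 1)) :
    ∃ n, 0 < n ∧ (Nat.card F - 1) * n ≤ Nat.card F ^ (m + 1) ∧ (A ^ n = 1 ∨ A ^ n = -1) := by
  obtain ⟨p, hp⟩ := CharP.exists F
  haveI : Fact p.Prime := ⟨CharP.char_is_prime F p⟩
  have hpp : p.Prime := Fact.out
  set μ := minpoly F A with hμdef
  have hμ0 : μ ≠ 0 := minpoly.ne_zero (Matrix.isIntegral A)
  set q := Nat.card F with hq
  have hq2 : 2 ≤ q := Finite.one_lt_card
  have hpq : p ≤ q := by
    cases nonempty_fintype F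
    obtain ⟨k, -, hk⟩ := FiniteField.card F p
    rw [hq, Nat.card_eq_fintype_card, hk]
    exact Nat.le_self_pow k.ne_zero p
  set f1 : F[X] := X - 1 with hf1
  set f2 : F[X] := X + 1 with hf2
  set P : Finset F[X] := {f1, f2} with hP
  set s := fac A with hs
  set c := fun f => s.count f with hc
  set T := s.toFinset.filter (fun f => f ∉ P) with hT
  have hTs : ∀ f ∈ T, f ∈ s ∧ f ≠ f1 ∧ f ≠ f2 := fun f hf => by
    obtain ⟨h1, h2⟩ := Finset.mem_filter.1 hf
    simp only [hP, Finset.mem_insert, Finset.mem_singleton, not_or] at h2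
    exact ⟨Multiset.mem_toFinset.1 h1, h2⟩
  have hrcpT : ∀ f ∈ T, rcp f ∈ T := fun f hf => by
    obtain ⟨hfs, h1, h2⟩ := hTs f hf
    refine Finset.mem_filter.2 ⟨Multiset.mem_toFinset.2 ?_, ?_⟩
    · rw [hs, ← map_rcp_fac hN hA hinv]; exact Multiset.mem_map_of_mem _ hfs
    · simp only [hP, Finset.mem_insert, Finset.mem_singleton, not_or]
      refine ⟨fun h => h1 ?_, fun h => h2 ?_⟩
      · rw [← rcp_rcp (mem_fac hfs).2.1, h, hf1, rcp_X_sub_one]
      · rw [← rcp_rcp (mem_fac hfs).2.1, h, hf2, rcp_X_add_one]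
  have hrr : ∀ f ∈ T, rcp (rcp f) = f := fun f hf => rcp_rcp (mem_fac (hTs f hf).1).2.1
  obtain ⟨R, hRT, hcov, hRuniq⟩ := exists_reps T rcp hrr hrcpT
  have hcr : ∀ f ∈ T, c (rcp f) = c f := fun f hf => count_rcp hN hA hinv (hTs f hf).1
  have data : ∀ f ∈ T, 1 ≤ halfDeg f ∧ 1 ≤ c f ∧ f ∣ X ^ expo f - 1 ∧
      ∑ g ∈ orbit f, c g * g.natDegree = 2 * (halfDeg f * c f) := by
    intro f hf
    obtain ⟨hfs, h1, h2⟩ := hTs f hf
    obtain ⟨e, he, ⟨hs', hd, hdiv⟩ | ⟨hs', hd, hdiv⟩⟩ := dvd_torus' hN hA hfs h1 h2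
    · have hh : halfDeg f = e := by rw [halfDeg, if_pos hs', hd]; omega
      refine ⟨by omega, Multiset.one_le_count_iff_mem.2 hfs,
        by rw [expo, if_pos hs', hh]; exact hdiv, ?_⟩
      rw [orbit, hs', Finset.pair_eq_singleton, Finset.sum_singleton, hd, hh]; ring
    · have hh : halfDeg f = e := by rw [halfDeg, if_neg hs', hd]
      refine ⟨by omega, Multiset.one_le_count_iff_mem.2 hfs,
        by rw [expo, if_neg hs', hh]; exact hdiv, ?_⟩
      rw [orbit, Finset.sum_pair (Ne.symm hs'), natDegree_rcp, hd, hh]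
      show c f * e + c (rcp f) * e = 2 * (e * c f)
      rw [hcr f hf]; ring
  have horbT : ∀ f ∈ R, orbit f ⊆ T := fun f hf g hg => by
    simp only [orbit, Finset.mem_insert, Finset.mem_singleton] at hg
    rcases hg with rfl | rfl
    exacts [hRT hf, hrcpT f (hRT hf)]
  have hdisj : (R : Set F[X]).PairwiseDisjoint orbit := by
    intro f hf g hg hfg
    rw [Function.onFun, Finset.disjoint_left]
    intro a ha hb
    simp only [orbit, Finset.mem_insert, Finset.mem_singleton] at ha hb
    rcases ha with rfl | rfl <;> rcases hb with h | h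
    · exact hfg h
    · exact hfg (by rw [h]; exact hRuniq g hg (h ▸ hf))
    · refine hfg ?_
      rw [← h]; exact (hRuniq f hf (h ▸ hg)).symm
    · exact hfg (by rw [← hrr f (hRT hf), h, hrr g (hRT hg)])
  -- degree bookkeeping
  have hdeg : 2 * ∑ f ∈ R, halfDeg f * c f + ∑ g ∈ P, c g ≤ μ.natDegree := by
    have hsum : μ.natDegree = (s.map natDegree).sum := by
      rw [hs, fac, ← natDegree_eq_of_degree_eq (degree_eq_degree_of_associated (prod_normalizedFactors hμ0)),
        natDegree_multiset_prod _ fun h => not_irreducible_zero (irreducible_of_normalized_factor _ h)]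
    have hP1 : ∑ g ∈ P, c g = ∑ g ∈ P, c g * g.natDegree := Finset.sum_congr rfl fun g hg => by
      simp only [hP, Finset.mem_insert, Finset.mem_singleton] at hg
      rcases hg with rfl | rfl
      · rw [hf1, ← C_1, natDegree_X_sub_C, mul_one]
      · rw [hf2, ← C_1, natDegree_X_add_C, mul_one]
    have hdP : Disjoint (R.biUnion orbit) P := by
      rw [Finset.disjoint_left]
      intro g hg hgP
      obtain ⟨f, hf, hgf⟩ := Finset.mem_biUnion.1 hg
      exact (Finset.mem_filter.1 (horbT f hf hgf)).2 hgP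
    rw [Finset.mul_sum, hsum, Finset.sum_multiset_map_count, hP1,
      ← Finset.sum_congr rfl (fun f hf => (data f (hRT hf)).2.2.2), ← Finset.sum_biUnion hdisj,
      ← Finset.sum_union hdP]
    calc ∑ g ∈ R.biUnion orbit ∪ P, c g * g.natDegree
        = ∑ g ∈ (R.biUnion orbit ∪ P) ∩ s.toFinset, c g * g.natDegree := by
          refine (Finset.sum_subset Finset.inter_subset_left fun g hg hg' => ?_).symm
          rw [show c g = 0 from Multiset.count_eq_zero.2
            (fun h => hg' (Finset.mem_inter.2 ⟨hg, Multiset.mem_toFinset.2 h⟩)), zero_mul]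
      _ ≤ ∑ g ∈ s.toFinset, s.count g • g.natDegree :=
          Finset.sum_le_sum_of_subset Finset.inter_subset_right
  -- the exponent of the unipotent part
  set K := Nat.clog p (s.toFinset.sup c)
  have hpK : ∀ g ∈ s, c g ≤ p ^ K := fun g hg =>
    (Finset.le_sup (f := c) (Multiset.mem_toFinset.2 hg)).trans (Nat.le_pow_clog hpp.one_lt _)
  set S := ∑ f ∈ R, halfDeg f
  set Sc := ∑ f ∈ R, halfDeg f * c f with hSc
  set C := ∑ g ∈ P, c g
  have hSle : S ≤ Sc := Finset.sum_le_sum fun f hf =>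
    Nat.le_mul_of_pos_right _ (data f (hRT hf)).2.1
  have hwit : 1 ≤ K → (∃ f ∈ s, f ∈ P ∧ p ^ (K - 1) < c f) ∨
      ∃ f ∈ R, p ^ (K - 1) < c f := by
    intro hK
    have hne : s.toFinset.Nonempty := by
      by_contra h
      rw [Finset.not_nonempty_iff_eq_empty] at h
      simp [K, h] at hK
    obtain ⟨f, hf, hfe⟩ := Finset.exists_mem_eq_sup _ hne c
    have hlt : p ^ (K - 1) < c f := by
      rw [← hfe]
      exact Nat.pow_lt_of_lt_clog (show K - 1 < Nat.clog p (s.toFinset.sup c) by omega)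
    by_cases hfP : f ∈ P
    · exact Or.inl ⟨f, Multiset.mem_toFinset.1 hf, hfP, hlt⟩
    · have hfT : f ∈ T := Finset.mem_filter.2 ⟨hf, hfP⟩
      rcases hcov f hfT with h | h
      · exact Or.inr ⟨f, h, hlt⟩
      · exact Or.inr ⟨rcp f, h, by rw [hcr f hfT]; exact hlt⟩
  have hmain : S + K ≤ m := by
    rcases Nat.eq_zero_or_pos K with hK | hK
    · omega
    rcases hwit hK with ⟨f, -, hfP, hlt⟩ | ⟨f, hf, hlt⟩
    · have hCf : c f ≤ C := Finset.single_le_sum (fun g _ => Nat.zero_le (c g)) hfP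
      by_cases hp2 : p = 2
      · subst hp2
        have h2 : (2 : F) = 0 := CharTwo.two_eq_zero
        obtain ⟨hD, -⟩ | hD : (μ.natDegree ≤ 2 * m ∧ True) ∨ False := by
          rcases hD with h | ⟨-, h, -⟩
          · exact Or.inl ⟨h, trivial⟩
          · exact absurd h2 h
        · have := (exp_two hK hlt).1; clear hwit; omega
        · exact hD.elim
      · have := (exp_odd (p := p) (by have := hpp.two_le; omega) hK hlt).1
        clear hwit
        omega
    · have hK' : K ≤ c f - 1 :=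
        (exp_two hK (lt_of_le_of_lt (Nat.pow_le_pow_left hpp.two_le _) hlt)).2
      have : S + (c f - 1) ≤ Sc := by
        rw [hSc, ← Finset.add_sum_erase _ _ hf,
          show S = halfDeg f + ∑ g ∈ R.erase f, halfDeg g from (Finset.add_sum_erase _ _ hf).symm]
        have h1 := (data f (hRT hf)).1
        have h2 := (data f (hRT hf)).2.1
        have h3 : ∑ g ∈ R.erase f, halfDeg g ≤ ∑ g ∈ R.erase f, halfDeg g * c g :=
          Finset.sum_le_sum fun g hg =>
            Nat.le_mul_of_pos_right _ (data g (hRT (Finset.mem_of_mem_erase hg))).2.1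
        have h4 : halfDeg f + (c f - 1) ≤ halfDeg f * c f := by
          obtain ⟨u, hu⟩ : ∃ u, c f = u + 1 := ⟨c f - 1, by omega⟩
          rw [hu, Nat.add_sub_cancel, mul_add, mul_one]
          have := Nat.le_mul_of_pos_left u h1
          omega
        omega
      omega
  have hann : ∀ (G : F[X]), G ≠ 0 → (∀ g ∈ s, g ∣ G) → aeval A (G ^ p ^ K) = 0 := by
    intro G hG hg
    have hdvd : μ ∣ G ^ p ^ K := by
      rw [dvd_iff_normalizedFactors_le_normalizedFactors hμ0 (pow_ne_zero _ hG),
        normalizedFactors_pow, Multiset.le_iff_count]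
      intro g
      rw [Multiset.count_nsmul]
      show c g ≤ _
      by_cases hgs : g ∈ s
      · refine (hpK g hgs).trans (Nat.le_mul_of_pos_right _ (Multiset.count_pos.2 ?_))
        exact (mem_normalizedFactors_iff' hG).2 ⟨(mem_fac hgs).1, (mem_fac hgs).2.1, hg g hgs⟩
      · rw [show c g = 0 from Multiset.count_eq_zero.2 hgs]; exact Nat.zero_le _
    obtain ⟨w, hw⟩ := hdvd
    rw [hw, map_mul, minpoly.aeval, zero_mul]
  have hpKq : p ^ K ≤ q ^ K := Nat.pow_le_pow_left hpq K
  have hppos : 0 < p ^ K := pow_pos hpp.pos _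
  by_cases hR : R.Nonempty
  · obtain ⟨L, hL, hdvd, hLle⟩ := exists_torus_bound q hq2 halfDeg (fun f => rcp f = f) R
      fun f hf => (data f (hRT hf)).1
    have hexpo : ∀ f ∈ R, expo f ∣ L := fun f hf => hdvd f hf
    refine ⟨L * p ^ K, Nat.mul_pos hL hppos, ?_, Or.inl ?_⟩
    · calc (q - 1) * (L * p ^ K) = (q - 1) * L * p ^ K := by ring
        _ ≤ q ^ (S + 1) * q ^ K := Nat.mul_le_mul hLle hpKq
        _ ≤ _ := by rw [← pow_add]; exact Nat.pow_le_pow_right (by omega) (by omega)
    · have h := hann (X ^ L - 1) (by rw [← C_1]; exact X_pow_sub_C_ne_zero hL 1) fun g hg => by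
        by_cases hgP : g ∈ P
        · simp only [hP, Finset.mem_insert, Finset.mem_singleton] at hgP
          rcases hgP with rfl | rfl
          · rw [hf1]; exact dvd_X_pow_sub_one (a := 1) (by rw [pow_one]) (one_dvd _)
          · rcases (hq ▸ Nat.even_or_odd q : Even q ∨ Odd q) with he | ho
            · have h2 : (2 : F) = 0 := by
                have h := (CharP.cast_eq_zero_iff F p 2).2 ?_
                · exact_mod_cast h
                cases nonempty_fintype F
                obtain ⟨k, -, hk⟩ := FiniteField.card F p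
                rw [hq, Nat.card_eq_fintype_card, hk, Nat.even_pow] at he
                exact (Nat.prime_dvd_prime_iff_eq hpp Nat.prime_two).2 (hpp.even_iff.1 he.1)
              have : f2 = X - 1 := by
                rw [hf2, sub_eq_add_neg, ← C_1, ← C_neg]
                congr 2
                linear_combination h2
              rw [this]; exact dvd_X_pow_sub_one (a := 1) (by rw [pow_one]) (one_dvd _)
            · obtain ⟨f, hf⟩ := hR
              refine dvd_X_pow_sub_one (a := 2) ⟨X - 1, by rw [hf2]; ring⟩ (dvd_trans ?_ (hexpo f hf))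
              have hodd : Odd (q ^ halfDeg f) := ho.pow
              unfold expo
              split_ifs
              · exact (Odd.add_odd hodd odd_one).two_dvd
              · exact (Nat.Odd.sub_odd hodd odd_one).two_dvd
        · have hgT : g ∈ T := Finset.mem_filter.2 ⟨Multiset.mem_toFinset.2 hg, hgP⟩
          refine dvd_X_pow_sub_one (data g hgT).2.2.1 ?_
          rcases hcov g hgT with h | h
          · exact hexpo g h
          · have := (orbit_eq (mem_fac hg).2.1 (g := rcp g) (by simp [orbit])).2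
            rw [← this]; exact hexpo _ h
      rw [sub_pow_char_pow, one_pow, ← pow_mul, map_sub, map_pow, aeval_X, map_one, sub_eq_zero] at h
      exact h
  · have hT0 : ∀ g ∈ s, g = f1 ∨ g = f2 := fun g hg => by
      by_contra hne
      rcases hcov g (Finset.mem_filter.2 ⟨Multiset.mem_toFinset.2 hg, by
        simpa [hP] using hne⟩) with h | h <;> exact hR ⟨_, h⟩
    have hpm : (q - 1) * p ^ K ≤ q ^ (m + 1) :=
      calc (q - 1) * p ^ K ≤ q * q ^ K := Nat.mul_le_mul (Nat.sub_le _ _) hpKq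
        _ ≤ q ^ (m + 1) := by rw [← pow_succ']; exact Nat.pow_le_pow_right (by omega) (by omega)
    by_cases h2s : f2 ∈ s
    swap
    · refine ⟨p ^ K, hppos, hpm, Or.inl ?_⟩
      have h := hann (X - 1) (by rw [← C_1]; exact X_sub_C_ne_zero 1) fun g hg => by
        rcases hT0 g hg with rfl | rfl
        · rw [hf1]
        · exact absurd hg h2s
      rw [sub_pow_char_pow, one_pow, map_sub, map_pow, aeval_X, map_one, sub_eq_zero] at h
      exact h
    by_cases h1s : f1 ∈ s ∧ f1 ≠ f2
    swap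
    · refine ⟨p ^ K, hppos, hpm, Or.inr ?_⟩
      have h := hann (X + 1) monic_X_add_one.ne_zero fun g hg => by
        rcases hT0 g hg with rfl | rfl
        · rw [show f1 = f2 by by_contra hne; exact h1s ⟨hg, hne⟩]
        · rw [hf2]
      rw [add_pow_char_pow, one_pow, map_add, map_pow, aeval_X, map_one, add_eq_zero_iff_eq_neg] at h
      exact h
    obtain ⟨h1s, h12⟩ := h1s
    have hp2 : p ≠ 2 := by
      rintro rfl
      refine h12 ?_
      rw [hf1, hf2, sub_eq_add_neg, ← C_1, ← C_neg, CharTwo.neg_eq]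
    have hK1 : K + 1 ≤ m := by
      rcases Nat.eq_zero_or_pos K with hK | hK
      · omega
      rcases hwit hK with ⟨f, hfs, hfP, hlt⟩ | ⟨f, hf, -⟩
      · have hC2 : c f + 1 ≤ C := by
          have hC : C = c f1 + c f2 := Finset.sum_pair h12
          have a1 : 1 ≤ c f1 := Multiset.one_le_count_iff_mem.2 h1s
          have a2 : 1 ≤ c f2 := Multiset.one_le_count_iff_mem.2 h2s
          rcases hT0 f hfs with rfl | rfl <;> omega
        refine (exp_odd (p := p) (by have := hpp.two_le; omega) hK hlt).2.2 m ?_ hm ?_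
        · clear hwit; omega
        · clear hwit; omega
      · exact absurd ⟨f, hf⟩ hR
    refine ⟨2 * p ^ K, by omega, ?_, Or.inl ?_⟩
    · calc (q - 1) * (2 * p ^ K) ≤ q * (q * q ^ K) :=
            Nat.mul_le_mul (Nat.sub_le _ _) (Nat.mul_le_mul hq2 hpKq)
        _ ≤ _ := by rw [← pow_succ', ← pow_succ']; exact Nat.pow_le_pow_right (by omega) (by omega)
    · have h := hann (X ^ 2 - 1) (by rw [← C_1]; exact X_pow_sub_C_ne_zero two_pos 1) fun g hg => by
        rcases hT0 g hg with rfl | rfl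
        · exact ⟨X + 1, by rw [hf1]; ring⟩
        · exact ⟨X - 1, by rw [hf2]; ring⟩
      rw [sub_pow_char_pow, one_pow, ← pow_mul, map_sub, map_pow, aeval_X, map_one, sub_eq_zero] at h
      exact h

end Cfsg.Agent.H69.MaxOrder
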