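import Cfsg.Agent.Orthogonal.Basic
import Cfsg.Agent.H69.MaxOrder.Bound

/-!
Element orders of `PΩ(Q)` for non-degenerate `Q`.
-/

set_option autoImplicit false

namespace Cfsg.Agent.H69.MaxOrder

open Cfsg Cfsg.Agent.H55 QuadraticMap

theorem pomega_bound {F : Type*} [Field F] [Fintype F] {ι : Type} [Fintype ι] [DecidableEq ι]
    (Q : QuadraticForm F (ι → F)) (hnd : ∀ v, (∀ w, polar Q v w = 0) → v = 0) {m : ℕ} (hm : 2 ≤ m)
    (hdim : Fintype.card ι ≤ 2 * m ∨ (3 ≤ m ∧ (2 : F) ≠ 0 ∧ Fintype.card ι ≤ 2 * m + 1))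
    (g : Cfsg.POmega F ⇑Q) :
    (Fintype.card F - 1) * orderOf g ≤ Fintype.card F ^ (m + 1) := by
  obtain ⟨z, rfl⟩ := QuotientGroup.mk'_surjective _ g
  set u : Matrix.GeneralLinearGroup ι F := ((z : Cfsg.isometryGroup F ⇑Q) : Matrix.GeneralLinearGroup ι F)
  set A : Matrix ι ι F := (u : Matrix ι ι F) with hAdef
  have hiso : ∀ v : ι → F, Q (A.mulVec v) = Q v := fun v => (z : Cfsg.isometryGroup F ⇑Q).2 v v
  haveI : Finite (Cfsg.Omega F ⇑Q) := inferInstance
  have hcoe : ∀ k : ℕ, A ^ k =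
      ((((z ^ k : Cfsg.Omega F ⇑Q) : Cfsg.isometryGroup F ⇑Q) : Matrix.GeneralLinearGroup ι F) : Matrix ι ι F) := by
    intro k
    simp [hAdef, u]
  have hA : A ^ orderOf z = 1 := by rw [hcoe, pow_orderOf_eq_one]; rfl
  set B : Matrix ι ι F := LinearMap.toMatrix₂' F (polarBilin Q)
  have hB : ∀ v w, dotProduct v (B.mulVec w) = polar Q v w := fun v w => by
    rw [← Matrix.toLinearMap₂'_apply']
    simp [B]
  have hinv : InvClosed A := by
    refine InvClosed.of_form (B := B) ((Matrix.isUnit_iff_isUnit_det B).2 (isUnit_iff_ne_zero.2 ?_)) ?_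
    · intro h
      obtain ⟨v, hv0, hv⟩ := Matrix.exists_mulVec_eq_zero_iff.2 h
      refine hv0 (hnd v fun w => ?_)
      rw [polar_comm, ← hB, hv, dotProduct_zero]
    · have key : ∀ v w, dotProduct v ((A.transpose * B * A).mulVec w) =
          dotProduct v (B.mulVec w) := fun v w => by
        rw [← Matrix.mulVec_mulVec, ← Matrix.mulVec_mulVec, Matrix.dotProduct_mulVec,
          Matrix.vecMul_transpose, hB, hB, polar, polar, ← Matrix.mulVec_add, hiso, hiso, hiso]
      refine Matrix.ext_iff_mulVec.2 fun w => funext fun i => ?_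
      have h := key (Pi.single i 1) w
      rwa [single_one_dotProduct, single_one_dotProduct] at h
  have hdeg := minpoly_natDegree_le_card A
  obtain ⟨n, hn, hle, hpow⟩ := order_bound (orderOf_pos z) hA hinv hm
    (hdim.imp (fun h => hdeg.trans h) (fun h => ⟨h.1, h.2.1, hdeg.trans h.2.2⟩))
  rw [← Nat.card_eq_fintype_card]
  refine le_trans (Nat.mul_le_mul_left _ (Nat.le_of_dvd hn (orderOf_dvd_of_pow_eq_one ?_))) hle
  rw [← map_pow, QuotientGroup.mk'_apply, QuotientGroup.eq_one_iff, Subgroup.mem_center_iff]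
  intro y
  refine Subtype.ext (Subtype.ext (Units.ext ?_))
  simp only [Subgroup.coe_mul, Units.val_mul]
  rw [← hcoe]
  rcases hpow with h | h <;> rw [h] <;> simp

end Cfsg.Agent.H69.MaxOrder
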