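import Cfsg.Agent.H55.SpGraphOdd
import Cfsg.Agent.H69.MaxOrder.Bound

/-!
Element orders of `PSp(2m, q)` are at most `q ^ (m + 1) / (q - 1)`.
-/

set_option autoImplicit false

namespace Cfsg.Agent.H69.MaxOrder

open Cfsg Cfsg.Agent.H55

theorem psp_bound {F : Type*} [Field F] [Fintype F] (m : ℕ) (hm : 2 ≤ m) (g : Cfsg.PSp m F) :
    (Fintype.card F - 1) * orderOf g ≤ Fintype.card F ^ (m + 1) := by
  obtain ⟨A, rfl⟩ := QuotientGroup.mk'_surjective _ g
  haveI : Finite (Matrix.symplecticGroup (Fin m) F) := Subtype.finite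
  have hA : (A : Symplectic.Mat m F) ^ orderOf A = 1 := by
    rw [← SubmonoidClass.coe_pow, pow_orderOf_eq_one, Submonoid.coe_one]
  obtain ⟨n, hn, hle, hpow⟩ := order_bound (orderOf_pos A) hA (invClosed_sp A) hm
    (Or.inl (minpoly_natDegree_le_sp _))
  rw [← Nat.card_eq_fintype_card]
  refine le_trans (Nat.mul_le_mul_left _ ?_) hle
  exact Nat.le_of_dvd hn (orderOf_dvd_of_pow_eq_one ((toPSp_pow_eq_one_iff (by omega) A n).2 hpow))

end Cfsg.Agent.H69.MaxOrder
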