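import Cfsg.Agent.H69.SpecEight.Upper

/-!
Self-reciprocal and paired factors of the minimal polynomial in any characteristic.
-/

set_option autoImplicit false

namespace Cfsg.Agent.H69.MaxOrder

open Polynomial UniqueFactorizationMonoid Cfsg.Agent.H69.SpecEight
open scoped Classical

variable {F : Type*} [Field F]

theorem irreducible_X_add_one : Irreducible (X + 1 : F[X]) := by
  rw [← sub_neg_eq_add, ← C_1, ← C_neg]; exact irreducible_X_sub_C _

theorem monic_X_add_one : (X + 1 : F[X]).Monic := by rw [← C_1]; exact monic_X_add_C 1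

theorem rcp_X_add_one : rcp (X + 1 : F[X]) = X + 1 := by
  have h1 : (X + 1 : F[X]) ∣ (X + 1 : F[X]).mirror := by
    rw [← sub_neg_eq_add, ← C_1, ← C_neg, dvd_iff_isRoot, IsRoot.def, sub_eq_add_neg, ← C_neg, neg_neg]
    have h := aeval_mirror_eq_zero (F := F) (a := (-1 : F)) (b := (-1 : F)) (by norm_num)
      (f := X + C (1 : F)) (by simp)
    rwa [aeval_def, Algebra.algebraMap_self, eval₂_id] at h
  rw [rcp, ← normalize_eq_normalize_iff_associated.2
      (irreducible_X_add_one.associated_of_dvd (irreducible_mirror irreducible_X_add_one) h1),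
    monic_X_add_one.normalize_eq_self]

variable {ι : Type*} [Fintype ι] [DecidableEq ι] [Finite F]

/-- Order of a root of a self-reciprocal or paired factor. -/
theorem dvd_torus' {A : Matrix ι ι F} {N : ℕ} (hN : 0 < N) (hA : A ^ N = 1) {f : F[X]}
    (hf : f ∈ fac A) (hne : f ≠ X - 1) (hne' : f ≠ X + 1) :
    ∃ e, 0 < e ∧
      ((rcp f = f ∧ f.natDegree = 2 * e ∧ f ∣ X ^ (Nat.card F ^ e + 1) - 1) ∨
        (rcp f ≠ f ∧ f.natDegree = e ∧ f ∣ X ^ (Nat.card F ^ e - 1) - 1)) := by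
  obtain ⟨hfi, hfn, hfμ⟩ := mem_fac hf
  obtain ⟨p', hp'F⟩ := CharP.exists F
  have : Fact p'.Prime := ⟨CharP.char_is_prime F p'⟩
  have : Fact (Irreducible f) := ⟨hfi⟩
  have : Module.Finite F (AdjoinRoot f) := (AdjoinRoot.powerBasis hfi.ne_zero).finite
  have : Finite (AdjoinRoot f) := Module.finite_of_finite F
  have : Fintype (AdjoinRoot f) := Fintype.ofFinite _
  set α := AdjoinRoot.root f with hα
  set d := f.natDegree with hd
  have hcardK : Nat.card (AdjoinRoot f) = Nat.card F ^ d := by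
    rw [Module.natCard_eq_pow_finrank (K := F), (AdjoinRoot.powerBasis hfi.ne_zero).finrank,
      AdjoinRoot.powerBasis_dim]
  have hdvdα : ∀ s : F[X], aeval α s = 0 ↔ f ∣ s := fun s => by
    rw [hα, AdjoinRoot.aeval_eq, AdjoinRoot.mk_eq_zero]
  have key : ∀ j, f ∣ X ^ j - 1 ↔ α ^ j = 1 := fun j => by
    rw [← hdvdα, map_sub, map_pow, aeval_X, map_one, sub_eq_zero]
  have hαN : α ^ N = 1 := (key N).1 (hfμ.trans (minpoly.dvd F A (by simp [hA])))
  have hα0 : α ≠ 0 := fun h => by rw [h, zero_pow hN.ne'] at hαN; exact zero_ne_one hαN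
  have hper : ∀ (x : AdjoinRoot f) (c : ℕ), x ^ (Nat.card F ^ (d * c)) = x := by
    intro x c
    rw [pow_mul, ← hcardK, Nat.card_eq_fintype_card, FiniteField.pow_card_pow]
  by_cases hs : rcp f = f
  swap
  · refine ⟨d, hfi.natDegree_pos, Or.inr ⟨hs, rfl, (key _).2 ?_⟩⟩
    rw [← hcardK, Nat.card_eq_fintype_card, FiniteField.pow_card_sub_one_eq_one α hα0]
  have hfm : aeval α f.mirror = 0 := (hdvdα _).2 (by
    conv_lhs => rw [← hs]
    exact (normalize_associated f.mirror).dvd)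
  set β := α⁻¹ with hβ
  have hαβ : β * α = 1 := inv_mul_cancel₀ hα0
  have hβf : aeval β f = 0 := by
    have := aeval_mirror_eq_zero hαβ hfm
    rwa [mirror_mirror] at this
  let τ : AdjoinRoot f →ₐ[F] AdjoinRoot f := AdjoinRoot.liftAlgHom f (Algebra.ofId F _) β hβf
  have hτ : τ α = β := AdjoinRoot.liftAlgHom_root _ _ _ _
  obtain ⟨i, hi⟩ := FiniteField.exists_forall_apply_eq_pow F p' (AdjoinRoot f)
    (AlgEquiv.ofBijective τ ⟨τ.toRingHom.injective,
      Finite.injective_iff_surjective.1 τ.toRingHom.injective⟩)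
  set ρ := i % d with hρ
  have hβr : β = α ^ (Nat.card F ^ ρ) := by
    rw [← hτ]
    have : τ α = α ^ (Nat.card F ^ i) := hi α
    rw [this, ← Nat.mod_add_div i d, pow_add, pow_mul, hper]
  have hαr : α ^ (Nat.card F ^ ρ + 1) = 1 := by rw [pow_succ, ← hβr, hαβ]
  have hαα : α ^ (Nat.card F ^ (2 * ρ)) = α := by
    rw [two_mul, pow_add, pow_mul, ← hβr, hβ, inv_pow, ← hβr, hβ, inv_inv]
  have hd2r : d ∣ 2 * ρ := hfi.natDegree_dvd_of_dvd_X_pow_card_pow_sub_X ((hdvdα _).1 (by
    rw [map_sub, map_pow, aeval_X, hαα, sub_self]))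
  have hrd : ρ < d := Nat.mod_lt _ hfi.natDegree_pos
  rcases Nat.eq_zero_or_pos ρ with h0 | h0
  · exfalso
    rw [h0, pow_zero] at hαr
    have hsq : α ^ 2 = 1 := hαr
    have hroot : ∀ c : F, α = algebraMap F (AdjoinRoot f) c → f = X - C c := by
      intro c hc
      have hd1 : f ∣ X - C c := (hdvdα _).1 (by rw [map_sub, aeval_X, aeval_C, hc, sub_self])
      rw [← hfn, ← (monic_X_sub_C c).normalize_eq_self]
      exact normalize_eq_normalize_iff_associated.2 (hfi.associated_of_dvd (irreducible_X_sub_C c) hd1)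
    rcases sq_eq_one_iff.1 hsq with h | h
    · exact hne (by rw [hroot 1 (by rw [h, map_one]), C_1])
    · exact hne' (by rw [hroot (-1) (by rw [h, map_neg, map_one]), C_neg, C_1, sub_neg_eq_add])
  · refine ⟨ρ, h0, Or.inl ⟨hs, ?_, (key _).2 hαr⟩⟩
    obtain ⟨c, hc⟩ := hd2r
    rcases c with _ | _ | c
    · omega
    · omega
    · rw [Nat.mul_succ, Nat.mul_succ] at hc; omega

end Cfsg.Agent.H69.MaxOrder
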